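import Mathlib
import Cfsg.Agent.S3780

/-!
Automorphisms induced on quotients and restricted to invariant subgroups, and what happens to the
number of fixed points.
-/

set_option autoImplicit false

namespace CfsgLib.AlperinFix

variable {G : Type*} [Group G]

/-- The fixed points of an automorphism. -/
def fixSub (α : MulAut G) : Subgroup G := MonoidHom.eqLocus (α : G ≃* G).toMonoidHom (MonoidHom.id G)

theorem mem_fixSub {α : MulAut G} {x : G} : x ∈ fixSub α ↔ α x = x := Iff.rfl

theorem map_eq_of_forall_mem [Finite G] {α : MulAut G} {N : Subgroup G} (hN : ∀ x ∈ N, α x ∈ N) :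
    N.map (α : G ≃* G).toMonoidHom = N := by
  refine Subgroup.eq_of_le_of_card_ge ?_ ?_
  · rintro _ ⟨x, hx, rfl⟩
    exact hN x hx
  · rw [Subgroup.card_map_of_injective (f := (α : G ≃* G).toMonoidHom) (α : G ≃* G).injective]

theorem apply_mem_of_characteristic {N : Subgroup G} [N.Characteristic] (α : MulAut G) {x : G} (hx : x ∈ N) :
    α x ∈ N :=
  (Subgroup.characteristic_iff_map_le.1 inferInstance (α : G ≃* G)) ⟨x, hx, rfl⟩

/-- The automorphism induced on a quotient. -/
noncomputable def qAut [Finite G] (α : MulAut G) (N : Subgroup G) [N.Normal] (hN : ∀ x ∈ N, α x ∈ N) :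
    MulAut (G ⧸ N) :=
  QuotientGroup.congr N N α (map_eq_of_forall_mem hN)

theorem qAut_mk [Finite G] (α : MulAut G) (N : Subgroup G) [N.Normal] (hN : ∀ x ∈ N, α x ∈ N) (x : G) :
    qAut α N hN (QuotientGroup.mk x) = QuotientGroup.mk (α x) := rfl

theorem qAut_pow_mk [Finite G] (α : MulAut G) (N : Subgroup G) [N.Normal] (hN : ∀ x ∈ N, α x ∈ N) :
    ∀ (k : ℕ) (x : G), (qAut α N hN ^ k) (QuotientGroup.mk x) = QuotientGroup.mk ((α ^ k) x)
  | 0, _ => rfl
  | k + 1, x => by
    rw [pow_succ', pow_succ', MulAut.mul_apply, MulAut.mul_apply, qAut_pow_mk α N hN k x, qAut_mk]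

theorem qAut_pow_eq_one [Finite G] {α : MulAut G} (N : Subgroup G) [N.Normal] (hN : ∀ x ∈ N, α x ∈ N)
    {k : ℕ} (hk : α ^ k = 1) : qAut α N hN ^ k = 1 := by
  refine MulEquiv.ext fun x => ?_
  induction x using QuotientGroup.induction_on with | _ x => ?_
  rw [qAut_pow_mk, hk]
  rfl

/-- Fixed points do not multiply in a quotient. -/
theorem card_fixSub_qAut_le [Finite G] (α : MulAut G) (N : Subgroup G) [N.Normal] (hN : ∀ x ∈ N, α x ∈ N) :
    Nat.card (fixSub (qAut α N hN)) ≤ Nat.card (fixSub α) := by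
  classical
  let S := (fixSub (qAut α N hN)).comap (QuotientGroup.mk' N)
  have hS : ∀ {g : G}, g ∈ S ↔ g⁻¹ * α g ∈ N := by
    intro g
    rw [Subgroup.mem_comap, mem_fixSub, QuotientGroup.mk'_apply, qAut_mk, QuotientGroup.eq]
    constructor
    · intro h
      simpa using inv_mem h
    · intro h
      simpa using inv_mem h
  let f : S → N := fun g => ⟨(g : G)⁻¹ * α g, hS.1 g.2⟩
  let F : S → fixSub α × N := fun g =>
    (⟨(g : G) * ((Function.invFun f (f g) : S) : G)⁻¹, by
      have h1 : f (Function.invFun f (f g)) = f g := Function.invFun_eq ⟨g, rfl⟩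
      generalize Function.invFun f (f g) = w at h1
      have e : (w : G)⁻¹ * α w = (g : G)⁻¹ * α g := congrArg Subtype.val h1
      rw [mem_fixSub, map_mul, map_inv]
      calc α g * (α w)⁻¹ = (g : G) * ((g : G)⁻¹ * α g) * (α w)⁻¹ := by simp [mul_assoc]
        _ = _ := by rw [← e]; simp [mul_assoc]⟩, f g)
  have hF : Function.Injective F := by
    intro a b h
    have h1 : f a = f b := congrArg Prod.snd h
    have h2 := congrArg (fun z => (z.1 : G)) h
    simp only [F, h1] at h2
    exact Subtype.ext (mul_right_cancel h2)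
  have h3 := Nat.card_le_card_of_injective F hF
  rw [Nat.card_prod] at h3
  have h4 : Nat.card S = Nat.card N * Nat.card (fixSub (qAut α N hN)) := by
    have hle : N ≤ S := fun x hx => hS.2 (mul_mem (inv_mem hx) (hN x hx))
    have e : N.relIndex S = Nat.card (fixSub (qAut α N hN)) := by
      have h := Subgroup.relIndex_comap (fixSub (qAut α N hN)) (QuotientGroup.mk' N) (⊤ : Subgroup G)
      have h2 := Subgroup.relIndex_comap (⊥ : Subgroup (G ⧸ N)) (QuotientGroup.mk' N) S
      rw [MonoidHom.comap_bot, QuotientGroup.ker_mk',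
        Subgroup.map_comap_eq_self_of_surjective (QuotientGroup.mk'_surjective N),
        Subgroup.relIndex_bot_left] at h2
      exact h2
    rw [← e]
    have h := Subgroup.relIndex_mul_relIndex ⊥ N S bot_le hle
    rw [Subgroup.relIndex_bot_left, Subgroup.relIndex_bot_left] at h
    exact h.symm
  rw [h4, mul_comm (Nat.card (fixSub α))] at h3
  exact Nat.le_of_mul_le_mul_left h3 Nat.card_pos

/-- The automorphism of an invariant subgroup. -/
noncomputable def rAut [Finite G] (α : MulAut G) (H : Subgroup G) (hH : ∀ x ∈ H, α x ∈ H) : MulAut H :=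
  (MulEquiv.subgroupMap (α : G ≃* G) H).trans (MulEquiv.subgroupCongr (map_eq_of_forall_mem hH))

theorem coe_rAut [Finite G] (α : MulAut G) (H : Subgroup G) (hH : ∀ x ∈ H, α x ∈ H) (x : H) :
    ((rAut α H hH x : H) : G) = α x := rfl

theorem coe_rAut_pow [Finite G] (α : MulAut G) (H : Subgroup G) (hH : ∀ x ∈ H, α x ∈ H) :
    ∀ (k : ℕ) (x : H), (((rAut α H hH ^ k) x : H) : G) = (α ^ k) x
  | 0, _ => rfl
  | k + 1, x => by
    rw [pow_succ', pow_succ', MulAut.mul_apply, MulAut.mul_apply, coe_rAut, coe_rAut_pow α H hH k x]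

theorem rAut_pow_eq_one [Finite G] {α : MulAut G} (H : Subgroup G) (hH : ∀ x ∈ H, α x ∈ H)
    {k : ℕ} (hk : α ^ k = 1) : rAut α H hH ^ k = 1 := by
  refine MulEquiv.ext fun x => Subtype.ext ?_
  rw [coe_rAut_pow, hk]
  rfl

theorem card_fixSub_rAut_le [Finite G] (α : MulAut G) (H : Subgroup G) (hH : ∀ x ∈ H, α x ∈ H) :
    Nat.card (fixSub (rAut α H hH)) ≤ Nat.card (fixSub α) :=
  Nat.card_le_card_of_injective
    (fun x => ⟨((x : H) : G), mem_fixSub.2 (congrArg Subtype.val (mem_fixSub.1 x.2))⟩)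
    (fun _ _ h => Subtype.ext (Subtype.ext (congrArg (fun z : fixSub α => (z : G)) h)))

/-- An abelian `p`-group of exponent `p ^ M` with few fixed points is small. -/
theorem card_le_of_exponent {V : Type*} [Group V] [Finite V] (hc : ∀ a b : V, a * b = b * a) {p : ℕ}
    [hp : Fact p.Prime] (hV : IsPGroup p V) (β : MulAut V) (hβ : β ^ p = 1) {n M : ℕ}
    (hfix : Nat.card (fixSub β) ≤ p ^ n) (hexp : ∀ v : V, v ^ p ^ M = 1) :
    Nat.card V ≤ p ^ (M * (p * n) + n) := by
  letI : CommGroup V := { (inferInstance : Group V) with mul_comm := hc }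
  obtain ⟨k, hk⟩ := IsPGroup.iff_card.1 (hV.to_subgroup (fixSub β))
  have hkn : k ≤ n := (Nat.pow_le_pow_iff_right hp.out.one_lt).1 (hk ▸ hfix)
  rcases (Nat.dvd_prime hp.out).1 (orderOf_dvd_of_pow_eq_one hβ) with h | h
  · rw [orderOf_eq_one_iff] at h
    subst h
    have e : fixSub (1 : MulAut V) = ⊤ := eq_top_iff.2 fun x _ => mem_fixSub.2 rfl
    rw [e, Subgroup.card_top] at hfix
    exact hfix.trans (Nat.pow_le_pow_right hp.out.pos (Nat.le_add_left _ _))
  · obtain ⟨S, hS, hS'⟩ := Cfsg.Agent.S3780.result hV β h k (by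
      rw [← hk]
      exact Nat.card_congr (Equiv.refl _))
    have h1 := card_dvd_exponent_pow_rank' V hexp
    refine (Nat.le_of_dvd (pow_pos (pow_pos hp.out.pos _) _) h1).trans ?_
    rw [← pow_mul]
    refine Nat.pow_le_pow_right hp.out.pos ?_
    have h2 : Group.rank V ≤ p * n :=
      ((Group.rank_le hS').trans hS).trans (Nat.mul_le_mul_left _ hkn)
    exact (Nat.mul_le_mul_left _ h2).trans (Nat.le_add_right _ _)

end CfsgLib.AlperinFix
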