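import Cfsg.Agent.Lib.FGS68.EigenFam

/-!
A Lie ring with an automorphism of period `p` whose fixed points are killed by `q`: long brackets are
killed by a bounded power of `p` and `q`.
-/

set_option autoImplicit false

namespace CfsgLib.AlperinFix

open Finset CfsgLib.FGS68

variable {p : ℕ} [hp : Fact p.Prime] {L : Type*} [AddCommGroup L] {β : L →+ L →+ L} {α : L →+ L}

theorem spread_mem_closure_of_norm (hper : ∀ x, (⇑α)^[p] x = x) (x : L)
    (hx : ∑ i : ZMod p, (⇑α)^[i.val] x = 0) :
    spread (p := p) x ∈ AddSubgroup.closure {f : ZMod p → L | ∃ j, f ∈ eigFam α j} := by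
  classical
  haveI : NeZero p := ⟨hp.out.ne_zero⟩
  set A : ZMod p → L := fun i => (⇑α)^[i.val] x
  have hA : ∀ i, α (A i) = A (i + 1) := fun i => by
    show α ((⇑α)^[i.val] x) = (⇑α)^[(i + 1).val] x
    rw [← Function.iterate_succ_apply' (f := ⇑α), iterate_mod hper (i.val.succ), ZMod.val_add, ZMod.val_one]
  have hnon : ∑ i ∈ univ.erase (0 : ZMod p), A i = -x := by
    rw [eq_neg_iff_add_eq_zero, show x = A 0 by simp [A], Finset.sum_erase_add _ _ (Finset.mem_univ 0)]
    exact hx
  have hsum : spread (p := p) x = ∑ j ∈ univ.erase (0 : ZMod p), fun k => A (-k * j⁻¹) := by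
    funext k
    rw [Finset.sum_apply]
    by_cases hk : k = 0
    · subst hk
      rw [Finset.sum_congr rfl fun j _ => show A (-0 * j⁻¹) = x by simp [A], Finset.sum_const,
        Finset.card_erase_of_mem (Finset.mem_univ 0), Finset.card_univ, ZMod.card]
      show (if (0 : ZMod p) = 0 then p • x else 0) - x = _
      rw [if_pos rfl, sub_eq_iff_eq_add, ← succ_nsmul, Nat.sub_add_cancel hp.out.one_le]
    · show (if k = 0 then p • x else 0) - x = _
      rw [if_neg hk, zero_sub, ← hnon]
      refine Finset.sum_nbij' (fun j => -k * j⁻¹) (fun j => -k * j⁻¹) ?_ ?_ ?_ ?_ ?_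
      all_goals intro j hj
      · simp [hk, (Finset.mem_erase.1 hj).1]
      · simp [hk, (Finset.mem_erase.1 hj).1]
      · field_simp
      · field_simp
      · have hj0 := (Finset.mem_erase.1 hj).1
        congr 1
        field_simp
  rw [hsum]
  refine AddSubgroup.sum_mem _ fun j hj => AddSubgroup.subset_closure ⟨j, fun k => ?_⟩
  rw [hA]
  congr 1
  have := (Finset.mem_erase.1 hj).1
  field_simp
  ring

theorem spread_nsmul (q : ℕ) (y : L) : spread (p := p) (q • y) = q • spread (p := p) y := by
  funext k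
  simp only [spread, Pi.smul_apply, smul_sub]
  by_cases hk : k = 0
  · rw [if_pos hk, if_pos hk, smul_comm]
  · rw [if_neg hk, if_neg hk, smul_zero]

theorem foldl_nsmul (c : ℕ) : ∀ (l : List L) (m : L) (e : ℕ),
    (l.map (fun x => c • x)).foldl (fun a x => β a x) (c ^ e • m) =
      c ^ (e + l.length) • l.foldl (fun a x => β a x) m
  | [], _, _ => rfl
  | x :: l, m, e => by
    rw [List.map_cons, List.foldl_cons, List.foldl_cons, List.length_cons,
      show e + (l.length + 1) = e + 1 + l.length by ring, ← foldl_nsmul c l (β m x) (e + 1)]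
    congr 1
    rw [map_nsmul β, AddMonoidHom.nsmul_apply, map_nsmul, ← mul_smul, pow_succ]

/-- Brackets of length `t + 1` are killed by `p ^ t * (q * q) ^ (t + 1)`. -/
theorem foldl_torsion (hper : ∀ x, (⇑α)^[p] x = x) (hmul : ∀ a b, α (β a b) = β (α a) (α b))
    {q : ℕ} (hq : ∀ x, α x = x → q • x = 0) (hj : JacobiId β) (t : ℕ)
    (hbound : ∀ F : ZMod p → AddSubgroup (ZMod p → L), JacobiId (conv (p := p) β) → GradedFam (conv β) F →
      ∀ k, pw (conv β) F F t k = ⊥)
    (m : L) (l : List L) (hl : l.length = t) :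
    (p ^ t * (q * q) ^ (t + 1)) • l.foldl (fun a x => β a x) m = 0 := by
  classical
  haveI : NeZero p := ⟨hp.out.ne_zero⟩
  let F : ZMod p → AddSubgroup (ZMod p → L) := fun i =>
    (eigFam α i).map (nsmulAddMonoidHom q)
  have hF : GradedFam (conv (p := p) β) F := by
    refine ⟨(AddSubgroup.eq_bot_iff_forall _).2 ?_, ?_⟩
    · rintro _ ⟨f, hf, rfl⟩
      funext k
      refine hq _ ?_
      have h := hf k
      rwa [sub_zero] at h
    · rintro i j _ _ ⟨f, hf, rfl⟩ ⟨g, hg, rfl⟩
      refine ⟨q • conv β f g, ?_, ?_⟩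
      · refine AddSubgroup.nsmul_mem _ ?_ q
        intro k
        rw [conv_apply, conv_apply, map_sum, ← Equiv.sum_comp (Equiv.subRight i) fun a => β (f a) (g (k - (i + j) - a))]
        refine Finset.sum_congr rfl fun a _ => ?_
        rw [hmul, hf a, hg (k - a), Equiv.subRight_apply, show k - (i + j) - (a - i) = k - a - j by ring]
      · simp only [nsmulAddMonoidHom_apply, map_nsmul, AddMonoidHom.nsmul_apply]
  have hs : ∀ x : L, spread (p := p) ((q * q) • x) ∈ AddSubgroup.closure {f | ∃ j, f ∈ F j} := by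
    intro x
    have h0 : ∑ i : ZMod p, (⇑α)^[i.val] (q • x) = 0 := by
      have e : ∀ i : ZMod p, (⇑α)^[i.val] (q • x) = q • (⇑α)^[i.val] x := fun i =>
        iterate_map_nsmul _ _ _ _
      rw [Finset.sum_congr rfl fun i _ => e i, ← Finset.smul_sum]
      refine hq _ ?_
      have hA : ∀ i : ZMod p, α ((⇑α)^[i.val] x) = (⇑α)^[(i + 1).val] x := fun i => by
        rw [← Function.iterate_succ_apply' (f := ⇑α), iterate_mod hper (i.val.succ), ZMod.val_add, ZMod.val_one]
      rw [map_sum, Finset.sum_congr rfl fun i _ => hA i]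
      exact Equiv.sum_comp (Equiv.addRight (1 : ZMod p)) fun i => (⇑α)^[i.val] x
    have h1 := spread_mem_closure_of_norm hper (q • x) h0
    rw [mul_smul, spread_nsmul]
    have h2 : AddSubgroup.closure {f : ZMod p → L | ∃ j, f ∈ eigFam α j} ≤
        (AddSubgroup.closure {f | ∃ j, f ∈ F j}).comap (nsmulAddMonoidHom q) := by
      rw [AddSubgroup.closure_le]
      rintro f ⟨j, hf⟩
      exact AddSubgroup.subset_closure ⟨j, f, hf, rfl⟩
    exact h2 h1
  have key : ∀ (l : List L) (s e : ℕ) (w : L),
      p ^ e • spread (p := p) w ∈ AddSubgroup.closure {f | ∃ k, f ∈ pw (conv β) F F s k} →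
      p ^ (e + l.length) • spread (p := p) ((l.map fun x => (q * q) • x).foldl (fun a x => β a x) w) ∈
        AddSubgroup.closure {f | ∃ k, f ∈ pw (conv β) F F (s + l.length) k} := by
    intro l
    induction l with
    | nil => intro s e w h; simpa using h
    | cons x l ih =>
      intro s e w h
      rw [List.length_cons, show e + (l.length + 1) = e + 1 + l.length by ring,
        show s + (l.length + 1) = s + 1 + l.length by ring, List.map_cons, List.foldl_cons]
      refine ih (s + 1) (e + 1) (β w ((q * q) • x)) ?_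
      have := conv_mem_closure h (hs x)
      rwa [map_nsmul (conv β), AddMonoidHom.nsmul_apply, conv_spread, ← mul_smul, ← pow_succ] at this
  have h0 : p ^ 0 • spread (p := p) ((q * q) ^ 1 • m) ∈
      AddSubgroup.closure {f | ∃ k, f ∈ pw (conv β) F F 0 k} := by
    rw [pow_zero, one_smul, pow_one]
    exact hs m
  have h1 := key l 0 0 _ h0
  rw [zero_add, hl, foldl_nsmul, hl, add_comm 1 t] at h1
  have h2 : AddSubgroup.closure {f | ∃ k, f ∈ pw (conv β) F F t k} = ⊥ := by
    rw [eq_bot_iff, AddSubgroup.closure_le]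
    rintro f ⟨k, hk⟩
    rw [hbound F (jacobi_conv hj) hF k] at hk
    exact hk
  rw [h2, AddSubgroup.mem_bot] at h1
  have h3 := congrFun h1 1
  simp only [Pi.smul_apply, spread, if_neg (one_ne_zero : (1 : ZMod p) ≠ 0), zero_sub, smul_neg, Pi.zero_apply,
    neg_eq_zero] at h3
  rw [mul_smul]
  exact h3

end CfsgLib.AlperinFix
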