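import Cfsg.Agent.Lib.AlperinFix.Aut
import Cfsg.Agent.Lib.AlperinFix.LieTorsion
import Cfsg.Agent.Lib.FGS68.FixedPointFreeClass
import Cfsg.Agent.S3781

/-!
A `p`-group with an automorphism of period `p` and boundedly many fixed points has bounded derived length.
-/

set_option autoImplicit false

namespace CfsgLib.AlperinFix

open CfsgLib.FGS68
open scoped commutatorElement

variable {p : ℕ} [hp : Fact p.Prime]

/-- The Higman–Kreknin bound. -/
def hkBound (p : ℕ) : ℕ := ∑ e ∈ Finset.range (2 ^ (p - 1) - 1), (p - 1) ^ e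

theorem one_le_hkBound (hp : p.Prime) : 1 ≤ hkBound p := by
  have h1 : 0 ∈ Finset.range (2 ^ (p - 1) - 1) := by
    have : 2 ≤ 2 ^ (p - 1) := le_self_pow₀ (by norm_num) (by have := hp.two_le; omega)
    rw [Finset.mem_range]
    omega
  refine le_trans (le_of_eq (by rw [pow_zero])) (Finset.single_le_sum (fun e _ => Nat.zero_le _) h1)

/-- The exponent of a layer. -/
def layerExp (p n : ℕ) : ℕ := hkBound p + 2 * n * (hkBound p + 1)

/-- The order bound of a layer. -/
def layerLog (p n : ℕ) : ℕ := layerExp p n * (p * n) + n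

variable {P : Type*} [Group P] [Finite P]

theorem lcsTerm_invariant (α : MulAut P) (i : ℕ) : ∀ x ∈ lcsTerm P i, α x ∈ lcsTerm P i :=
  fun _ hx => map_mem_lcsTerm α hx

theorem subgroupOf_invariant (α : MulAut P) (i : ℕ) : ∀ x ∈ (lcsTerm P (i + 1)).subgroupOf (lcsTerm P i),
    rAut α (lcsTerm P i) (lcsTerm_invariant α i) x ∈ (lcsTerm P (i + 1)).subgroupOf (lcsTerm P i) := by
  intro x hx
  rw [Subgroup.mem_subgroupOf] at hx ⊢
  rw [coe_rAut]
  exact map_mem_lcsTerm α hx

theorem glie_fixed_nsmul (hP : IsPGroup p P) (α : MulAut P) {n : ℕ}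
    (hfix : Nat.card (fixSub α) ≤ p ^ n) (a : GLie P) (ha : glieMap α a = a) : p ^ n • a = 0 := by
  refine DFinsupp.ext fun i => ?_
  have h : layerMap α i (a i) = a i := by
    have := congrArg (fun f : GLie P => f i) ha
    simpa [glieMap, DirectSum.map_apply] using this
  rw [DFinsupp.smul_apply]
  show p ^ n • a i = 0
  revert h
  generalize a i = v
  intro h
  obtain ⟨v, rfl⟩ := Additive.ofMul.surjective v
  set r := rAut α (lcsTerm P i) (lcsTerm_invariant α i)
  have hmem : v ∈ fixSub (qAut r ((lcsTerm P (i + 1)).subgroupOf (lcsTerm P i)) (subgroupOf_invariant α i)) := by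
    rw [mem_fixSub]
    induction v using QuotientGroup.induction_on with | _ x => ?_
    exact congrArg Additive.toMul h
  obtain ⟨k, hk⟩ := IsPGroup.iff_card.1
    (((hP.to_subgroup (lcsTerm P i)).to_quotient ((lcsTerm P (i + 1)).subgroupOf (lcsTerm P i))).to_subgroup
      (fixSub (qAut r ((lcsTerm P (i + 1)).subgroupOf (lcsTerm P i)) (subgroupOf_invariant α i))))
  have hkn : k ≤ n := (Nat.pow_le_pow_iff_right hp.out.one_lt).1
    (hk ▸ ((card_fixSub_qAut_le r _ (subgroupOf_invariant α i)).trans
      ((card_fixSub_rAut_le α _ (lcsTerm_invariant α i)).trans hfix)))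
  rw [← ofMul_pow]
  show Additive.ofMul _ = Additive.ofMul 1
  congr 1
  refine orderOf_dvd_iff_pow_eq_one.1 (dvd_trans ?_ (pow_dvd_pow p hkn))
  rw [← hk]
  have := orderOf_dvd_natCard (⟨v, hmem⟩ : fixSub (qAut r _ (subgroupOf_invariant α i)))
  rwa [Subgroup.orderOf_mk] at this

theorem pow_mem_lcsTerm_succ (hP : IsPGroup p P) (α : MulAut P) (hα : α ^ p = 1) {n : ℕ}
    (hfix : Nat.card (fixSub α) ≤ p ^ n) (x : P) (hx : x ∈ lcsTerm P (hkBound p)) :
    x ^ p ^ layerExp p n ∈ lcsTerm P (hkBound p + 1) := by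
  have hper : ∀ a : GLie P, (⇑(glieMap α))^[p] a = a := by
    intro a
    induction a using glie_induction with
    | h0 => exact iterate_map_zero _ p
    | hadd a b ha hb => rw [iterate_map_add, ha, hb]
    | hel i x hx =>
      obtain ⟨h, e⟩ := glieMap_iterate_el α hx p
      rw [e]
      exact el_congr rfl (by rw [hα]; rfl) _ _
  have hzero : ∀ (m : GLie P) (l : List (GLie P)), l.length = hkBound p →
      p ^ layerExp p n • l.foldl (fun u v => lieBr P u v) m = 0 := by
    intro m l hl
    have h := foldl_torsion hper (glieMap_lieBr α) (glie_fixed_nsmul hP α hfix) jacobiId_lieBr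
      (hkBound p) (fun F hj hF k => pw_eq_bot hj hF k) m l hl
    rw [← pow_add, ← pow_mul, ← pow_add] at h
    rw [layerExp, show 2 * n * (hkBound p + 1) = (n + n) * (hkBound p + 1) by ring]
    exact h
  have h2 : AddSubgroup.closure {a : GLie P | ∃ (m : GLie P) (l : List (GLie P)), l.length = hkBound p ∧
      l.foldl (fun u v => lieBr P u v) m = a} ≤ (nsmulAddMonoidHom (p ^ layerExp p n)).ker := by
    rw [AddSubgroup.closure_le]
    rintro _ ⟨m, l, hl, rfl⟩
    exact hzero m l hl
  have h3 : p ^ layerExp p n • el (hkBound p) x hx = 0 := h2 (el_mem_folds (hkBound p) x hx)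
  refine (el_eq_zero (pow_mem hx _)).1 ?_
  rw [← h3]
  show DirectSum.of (Layer P) _ _ = p ^ layerExp p n • DirectSum.of (Layer P) _ _
  rw [← map_nsmul]
  rfl

theorem card_layer_le (hP : IsPGroup p P) (α : MulAut P) (hα : α ^ p = 1) {n : ℕ}
    (hfix : Nat.card (fixSub α) ≤ p ^ n) :
    (lcsTerm P (hkBound p + 1)).relIndex (lcsTerm P (hkBound p)) ≤ p ^ layerLog p n := by
  set t := hkBound p
  set r := rAut α (lcsTerm P t) (lcsTerm_invariant α t)
  have hc : ∀ a b : ↥(lcsTerm P t) ⧸ (lcsTerm P (t + 1)).subgroupOf (lcsTerm P t), a * b = b * a := by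
    intro a b
    induction a using QuotientGroup.induction_on with | _ a => ?_
    induction b using QuotientGroup.induction_on with | _ b => ?_
    rw [← QuotientGroup.mk_mul, ← QuotientGroup.mk_mul, QuotientGroup.eq, Subgroup.mem_subgroupOf]
    have e : (((a * b)⁻¹ * (b * a) : lcsTerm P t) : P) = ⁅(b : P)⁻¹, (a : P)⁻¹⁆ := by
      simp [commutatorElement_def, mul_assoc]
    rw [e]
    exact lcsTerm_le (by omega) (commutatorElement_mem_lcsTerm (inv_mem b.2) (inv_mem a.2))
  rw [Subgroup.relIndex, Subgroup.index_eq_card]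
  refine card_le_of_exponent hc ((hP.to_subgroup _).to_quotient _)
    (qAut r _ (subgroupOf_invariant α t)) (qAut_pow_eq_one _ _ (rAut_pow_eq_one _ _ hα))
    ((card_fixSub_qAut_le r _ _).trans ((card_fixSub_rAut_le α _ _).trans hfix)) fun v => ?_
  induction v using QuotientGroup.induction_on with | _ x => ?_
  rw [← QuotientGroup.mk_pow, QuotientGroup.eq_one_iff, Subgroup.mem_subgroupOf, SubgroupClass.coe_pow]
  exact pow_mem_lcsTerm_succ hP α hα hfix x x.2

theorem map_lcs_top {G : Type*} [Group G] (N : Subgroup G) : ∀ k : ℕ,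
    ((⊤ : Subgroup N).lowerCentralSeries k).map N.subtype = N.lowerCentralSeries k
  | 0 => by
    show (⊤ : Subgroup N).map N.subtype = N
    rw [← MonoidHom.range_eq_map, Subgroup.range_subtype]
  | k + 1 => by
    show (⁅(⊤ : Subgroup N).lowerCentralSeries k, (⊤ : Subgroup N)⁆).map N.subtype = ⁅N.lowerCentralSeries k, N⁆
    rw [Subgroup.map_commutator, map_lcs_top N k, ← MonoidHom.range_eq_map, Subgroup.range_subtype]

theorem map_derivedSeries_le_of_le {G : Type*} [Group G] (X : Subgroup G) {m : ℕ}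
    (h : derivedSeries G m ≤ X) : ∀ j : ℕ, derivedSeries G (m + j) ≤ (derivedSeries X j).map X.subtype
  | 0 => by rwa [add_zero, derivedSeries_zero, ← MonoidHom.range_eq_map, Subgroup.range_subtype]
  | j + 1 => by
    rw [← add_assoc, derivedSeries_succ, derivedSeries_succ, Subgroup.map_commutator]
    exact Subgroup.commutator_mono (map_derivedSeries_le_of_le X h j) (map_derivedSeries_le_of_le X h j)

theorem derivedSeries_add_eq_bot {G : Type*} [Group G] (X : Subgroup G) {m j : ℕ}
    (h : derivedSeries G m ≤ X) (hj : derivedSeries X j = ⊥) : derivedSeries G (m + j) = ⊥ := by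
  have h2 := map_derivedSeries_le_of_le X h j
  rwa [hj, Subgroup.map_bot, le_bot_iff] at h2

/-- The bound for `p`-groups. -/
def pGroupBound (p n : ℕ) : ℕ := layerLog p n + (hkBound p + 1)

/-- A `p`-group with an automorphism of period `p` and at most `p ^ n` fixed points. -/
theorem derivedSeries_pGroupBound (hP : IsPGroup p P) (α : MulAut P) (hα : α ^ p = 1) {n : ℕ}
    (hfix : Nat.card (fixSub α) ≤ p ^ n) : derivedSeries P (pGroupBound p n) = ⊥ := by
  set N := lcsTerm P (layerLog p n)
  haveI : N.Normal := lcsTerm_normal _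
  refine derivedSeries_add_eq_bot N (Subgroup.derived_le_lower_central _) ?_
  have key : (⊤ : Subgroup N).lowerCentralSeries (hkBound p + 1) = ⊥ := by
    by_contra hne
    have hne' : N.lowerCentralSeries (hkBound p + 1) ≠ ⊥ := by
      rw [← map_lcs_top]
      exact fun e => hne ((Subgroup.map_eq_bot_iff_of_injective _ N.subtype_injective).1 e)
    have h1 := Cfsg.Agent.S3781.result hP (layerLog p n + 1) (Nat.le_add_left _ _) N
      (le_of_eq (by rw [Nat.add_sub_cancel])) (hkBound p + 1)
      (by have := one_le_hkBound hp.out; omega) hne'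
    rw [Nat.add_sub_cancel, ← map_lcs_top N (hkBound p + 1), ← map_lcs_top N (hkBound p),
      Subgroup.relIndex_map_map_of_injective _ _ N.subtype_injective] at h1
    have h2 := card_layer_le (hP.to_subgroup N) (rAut α N (lcsTerm_invariant α _)) (rAut_pow_eq_one _ _ hα)
      ((card_fixSub_rAut_le α N _).trans hfix)
    have h3 := (Nat.pow_le_pow_iff_right hp.out.one_lt).1 (h1.trans h2)
    omega
  exact le_bot_iff.1 ((Subgroup.derived_le_lower_central _).trans_eq key)

end CfsgLib.AlperinFix
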