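import Cfsg.Agent.Lib.AlperinFix.PGroup
import Cfsg.Agent.Lib.Case.CharTwo
import Cfsg.Agent.Lib.Solvable.CoprimeMulAction
import Cfsg.Agent.Lib.PGroup.Basic
import Cfsg.Agent.S3779

/-!
A solvable group with an automorphism of period `p` and boundedly many fixed points has bounded derived
length.
-/

set_option autoImplicit false

namespace CfsgLib.AlperinFix

open scoped commutatorElement

/-- A finite solvable group of order at most `B` has derived length at most `B`. -/
theorem derivedSeries_eq_bot_of_card_le {G : Type*} [Group G] [Finite G] [Group.IsSolvable G] {B : ℕ}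
    (hB : Nat.card G ≤ B) : derivedSeries G B = ⊥ := by
  by_contra hne
  have key : ∀ i ≤ B, Nat.card (derivedSeries G i) + i ≤ Nat.card G := by
    intro i hi
    induction i with
    | zero => simp
    | succ i ih =>
      have h1 := ih (by omega)
      have hle : derivedSeries G (i + 1) ≤ derivedSeries G i := derivedSeries_antitone G (Nat.le_succ i)
      have hne1 : derivedSeries G (i + 1) ≠ derivedSeries G i := by
        intro e
        have hc : ∀ j, derivedSeries G (i + j) = derivedSeries G i := by
          intro j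
          induction j with
          | zero => rfl
          | succ j ihj =>
            rw [← add_assoc, derivedSeries_succ, ihj, ← derivedSeries_succ, e]
        obtain ⟨m, hm⟩ := (inferInstance : Group.IsSolvable G).solvable
        have h3 : derivedSeries G (i + m) = ⊥ := le_bot_iff.1 ((derivedSeries_antitone G (Nat.le_add_left m i)).trans_eq hm)
        rw [hc] at h3
        exact hne (le_bot_iff.1 ((derivedSeries_antitone G (show i ≤ B by omega)).trans_eq h3))
      have h2 : Nat.card (derivedSeries G (i + 1)) < Nat.card (derivedSeries G i) := by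
        by_contra h
        exact hne1 (Subgroup.eq_of_le_of_card_ge hle (not_lt.1 h))
      omega
  have h1 := key B le_rfl
  have h2 : 0 < Nat.card (derivedSeries G B) := Nat.card_pos
  omega

section CharacteristicP

variable {p : ℕ} [hp : Fact p.Prime] {K : Type*} [Group K] [Finite K] [Group.IsSolvable K]

theorem card_frattini_quotient_le {P : Type*} [Group P] [Finite P] (hP : IsPGroup p P) (α : MulAut P)
    (hα : α ^ p = 1) {n : ℕ} (hfix : Nat.card (fixSub α) ≤ p ^ n) :
    Nat.card (P ⧸ frattini P) ≤ p ^ (1 * (p * n) + n) := by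
  haveI : (frattini P).Characteristic := inferInstance
  refine card_le_of_exponent (fun a b => ?_) (hP.to_quotient _)
    (qAut α (frattini P) (fun x hx => apply_mem_of_characteristic α hx)) (qAut_pow_eq_one _ _ hα)
    ((card_fixSub_qAut_le α _ _).trans hfix) (fun v => ?_)
  · induction a using QuotientGroup.induction_on with | _ a => ?_
    induction b using QuotientGroup.induction_on with | _ b => ?_
    rw [← QuotientGroup.mk_mul, ← QuotientGroup.mk_mul, QuotientGroup.eq]
    have e : (a * b)⁻¹ * (b * a) = ⁅b⁻¹, a⁻¹⁆ := by simp [commutatorElement_def, mul_assoc]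
    rw [e]
    exact CfsgLib.PGroup.commutator_le_frattini hP
      (Subgroup.commutator_mem_commutator (Subgroup.mem_top _) (Subgroup.mem_top _))
  · induction v using QuotientGroup.induction_on with | _ x => ?_
    rw [← QuotientGroup.mk_pow, QuotientGroup.eq_one_iff, pow_one]
    exact CfsgLib.PGroup.pow_mem_frattini hP x

theorem derivedSeries_le_pCore (hO : Cfsg.pPrimeCore p K = ⊥) {B : ℕ}
    (hB : Nat.card (↥(Cfsg.pCore p K) ⧸ frattini ↥(Cfsg.pCore p K)) ≤ B) :
    derivedSeries K B.factorial ≤ Cfsg.pCore p K := by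
  haveI := CfsgLib.Solvable.pCore_normal p K
  set P := Cfsg.pCore p K with hPd
  haveI : (frattini ↥P).Characteristic := inferInstance
  let ψ : K →* MulAut (↥P ⧸ frattini ↥P) :=
    MonoidHom.mk' (fun g => qAut (MulAut.conjNormal g) (frattini ↥P) (fun _ hx => apply_mem_of_characteristic _ hx))
      (fun a b => MulEquiv.ext fun x => by
        induction x using QuotientGroup.induction_on with | _ x => ?_
        rw [qAut_mk, MulAut.mul_apply, qAut_mk, qAut_mk, map_mul, MulAut.mul_apply])
  have hker : ψ.ker ≤ P := by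
    refine CfsgLib.Solvable.le_pCore inferInstance fun ⟨g, hg⟩ => ?_
    refine ⟨(orderOf g).factorization p, Subtype.ext ?_⟩
    show g ^ p ^ (orderOf g).factorization p = 1
    set g' := g ^ p ^ (orderOf g).factorization p with hg'
    have hg'ker : g' ∈ ψ.ker := pow_mem hg _
    have hcop : (orderOf g').Coprime p := by
      have hne : orderOf g ≠ 0 := (orderOf_pos g).ne'
      have h1 : orderOf g' = orderOf g / p ^ (orderOf g).factorization p :=
        orderOf_pow_of_dvd (pow_ne_zero _ hp.out.ne_zero) (Nat.ordProj_dvd (orderOf g) p)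
      rw [h1]
      exact (Nat.coprime_ordCompl hp.out hne).symm
    letI : MulDistribMulAction ↥(Subgroup.zpowers g') ↥P :=
      MulDistribMulAction.compHom ↥P ((MulAut.conjNormal (H := P)).comp (Subgroup.zpowers g').subtype)
    have hcop2 : (Nat.card ↥(Subgroup.zpowers g')).Coprime (Nat.card (frattini ↥P)) := by
      obtain ⟨k, hk⟩ := IsPGroup.iff_card.1 ((CfsgLib.Solvable.pCore_isPGroup p K).to_subgroup (frattini ↥P))
      rw [hk, Nat.card_zpowers]
      exact hcop.pow_right k
    have htriv : ∀ (a : ↥(Subgroup.zpowers g')) (k : ↥P), k⁻¹ * (a • k) ∈ frattini ↥P := by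
      intro a k
      have ha : (a : K) ∈ ψ.ker := (Subgroup.zpowers_le.2 hg'ker) a.2
      have h := MulEquiv.congr_fun (MonoidHom.mem_ker.1 ha) (QuotientGroup.mk k)
      have h' : QuotientGroup.mk (s := frattini ↥P) k = QuotientGroup.mk (MulAut.conjNormal (a : K) k) := h.symm
      exact QuotientGroup.eq.1 h'
    have hc : g' ∈ Subgroup.centralizer (P : Set K) := by
      intro x hx
      have h := CfsgLib.Solvable.smul_eq_self_of_trivial_on_frattini_quotient hcop2 htriv
        ⟨g', Subgroup.mem_zpowers g'⟩ ⟨x, hx⟩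
      have h' : g' * x * g'⁻¹ = x := congrArg Subtype.val h
      exact (mul_inv_eq_iff_eq_mul.1 h').symm
    have hmem : g' ∈ P := CfsgLib.Case.centralizer_pCore_le_of_solvable hO hc
    obtain ⟨k, hk⟩ := (CfsgLib.Solvable.pCore_isPGroup p K) ⟨g', hmem⟩
    have h2 : orderOf g' ∣ p ^ k := orderOf_dvd_of_pow_eq_one (congrArg Subtype.val hk)
    exact orderOf_eq_one_iff.1 (Nat.eq_one_of_dvd_coprimes (hcop.pow_right k) dvd_rfl h2)
  refine le_trans ?_ hker
  haveI : Group.IsSolvable (K ⧸ ψ.ker) := Group.isSolvable_of_surjective (QuotientGroup.mk'_surjective _)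
  have hcard : Nat.card (K ⧸ ψ.ker) ≤ B.factorial := by
    rw [Nat.card_congr (QuotientGroup.quotientKerEquivRange ψ).toEquiv]
    refine (Subgroup.card_le_card_group ψ.range).trans ?_
    refine (Nat.card_le_card_of_injective (fun e => e.toEquiv) MulEquiv.toEquiv_injective).trans ?_
    rw [Nat.card_perm]
    exact Nat.factorial_le hB
  have h := map_derivedSeries_eq (QuotientGroup.mk'_surjective ψ.ker) B.factorial
  rw [derivedSeries_eq_bot_of_card_le hcard, Subgroup.map_eq_bot_iff, QuotientGroup.ker_mk'] at h
  exact h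

end CharacteristicP

/-- The bound for solvable groups. -/
def solvableBound (p n : ℕ) : ℕ := (p ^ (1 * (p * n) + n)).factorial + pGroupBound p n + hkBound p

theorem derivedSeries_solvableBound {p : ℕ} [hp : Fact p.Prime] {G : Type*} [Group G] [Finite G]
    [Group.IsSolvable G] (α : MulAut G) (hα : α ^ p = 1) {n : ℕ} (hfix : Nat.card (fixSub α) = p ^ n) :
    derivedSeries G (solvableBound p n) = ⊥ := by
  haveI := CfsgLib.Solvable.pPrimeCore_characteristic p G
  set O := Cfsg.pPrimeCore p G with hOd
  have hOinv : ∀ x ∈ O, α x ∈ O := fun x hx => apply_mem_of_characteristic α hx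
  set r := rAut α O hOinv
  have hfpf : ∀ x : O, r x = x → x = 1 := by
    intro x hx
    have h1 : orderOf (x : G) ∣ p ^ n := by
      rw [← hfix]
      have := orderOf_dvd_natCard (⟨(x : G), mem_fixSub.2 (congrArg Subtype.val hx)⟩ : fixSub α)
      rwa [Subgroup.orderOf_mk] at this
    have h2 : orderOf (x : G) ∣ Nat.card O := by
      rw [Subgroup.orderOf_coe]
      exact orderOf_dvd_natCard x
    exact Subtype.ext (orderOf_eq_one_iff.1 (Nat.eq_one_of_dvd_coprimes
      ((CfsgLib.Solvable.pPrimeCore_card_coprime p G).pow_right n) h2 h1))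
  have hO : derivedSeries O (hkBound p) = ⊥ := by
    rcases (Nat.dvd_prime hp.out).1 (orderOf_dvd_of_pow_eq_one (rAut_pow_eq_one O hOinv hα)) with h | h
    · rw [orderOf_eq_one_iff] at h
      exact (Subgroup.eq_bot_iff_forall _).2 fun x _ => hfpf x (by show rAut α O hOinv x = x; rw [h]; rfl)
    · exact le_bot_iff.1 ((Subgroup.derived_le_lower_central _).trans_eq
        (Cfsg.Agent.S3779.result hp.out r h hfpf).2.2)
  refine derivedSeries_add_eq_bot O ?_ hO
  haveI : Group.IsSolvable (G ⧸ O) := Group.isSolvable_of_surjective (QuotientGroup.mk'_surjective _)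
  set β := qAut α O hOinv
  have hbot : Cfsg.pPrimeCore p (G ⧸ O) = ⊥ := CfsgLib.Solvable.pPrimeCore_quotient_eq_bot O hOd
  haveI := CfsgLib.Solvable.pCore_characteristic p (G ⧸ O)
  set P := Cfsg.pCore p (G ⧸ O) with hPd
  have hPinv : ∀ x ∈ P, β x ∈ P := fun x hx => apply_mem_of_characteristic β hx
  have hPp : IsPGroup p P := CfsgLib.Solvable.pCore_isPGroup p (G ⧸ O)
  have hs : rAut β P hPinv ^ p = 1 := rAut_pow_eq_one P hPinv (qAut_pow_eq_one O hOinv hα)
  have hsfix : Nat.card (fixSub (rAut β P hPinv)) ≤ p ^ n :=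
    (card_fixSub_rAut_le β P hPinv).trans ((card_fixSub_qAut_le α O hOinv).trans hfix.le)
  have hq : derivedSeries (G ⧸ O) ((p ^ (1 * (p * n) + n)).factorial + pGroupBound p n) = ⊥ :=
    derivedSeries_add_eq_bot P (derivedSeries_le_pCore hbot (card_frattini_quotient_le hPp _ hs hsfix))
      (derivedSeries_pGroupBound hPp _ hs hsfix)
  have h := map_derivedSeries_eq (QuotientGroup.mk'_surjective O) ((p ^ (1 * (p * n) + n)).factorial + pGroupBound p n)
  rw [hq, Subgroup.map_eq_bot_iff, QuotientGroup.ker_mk'] at h
  exact h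

end CfsgLib.AlperinFix
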